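import Cfsg.Agent.Lib.Symplectic.Simple

/-!
The order of the symplectic group over a finite field.
-/

set_option autoImplicit false

namespace Cfsg.Agent.Symplectic

open Matrix MulAction

variable {m : ℕ} {F : Type*} [Field F] [Fintype F] {q : ℕ}

/-- Coordinates on the subspace supported outside `S`. -/
def suppEquiv (S : Finset (Fin m)) :
    (supp S : Submodule F (Vec m F)) ≃ ({i // i ∉ S} ⊕ {i // i ∉ S} → F) where
  toFun v := Sum.elim (fun i => v.1 (Sum.inl i.1)) (fun i => v.1 (Sum.inr i.1))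
  invFun w := ⟨Sum.elim (fun i => if h : i ∈ S then 0 else w (Sum.inl ⟨i, h⟩))
      (fun i => if h : i ∈ S then 0 else w (Sum.inr ⟨i, h⟩)), fun i hi => by simp [hi]⟩
  left_inv v := by
    refine Subtype.ext (funext fun k => ?_)
    rcases k with k | k <;> simp only [Sum.elim_inl, Sum.elim_inr] <;> split
    · exact ((v.2 k ‹_›).1).symm
    · rfl
    · exact ((v.2 k ‹_›).2).symm
    · rfl
  right_inv w := by
    funext k
    rcases k with ⟨k, hk⟩ | ⟨k, hk⟩ <;> simp [hk]

theorem card_supp (hF : Fintype.card F = q) (S : Finset (Fin m)) :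
    Nat.card (supp S : Submodule F (Vec m F)) = q ^ (2 * Sᶜ.card) := by
  classical
  rw [Nat.card_congr (suppEquiv S), Nat.card_fun, Nat.card_sum, Nat.card_eq_fintype_card (α := F),
    hF, Nat.card_eq_fintype_card, Fintype.card_subtype_compl, Fintype.card_fin,
    Fintype.card_coe, Finset.card_compl, Fintype.card_fin, two_mul]

theorem card_fibre (hF : Fintype.card F = q) {S : Finset (Fin m)} {u : Vec m F}
    (hu : u ∈ supp S) (hu0 : u ≠ 0) :
    q * Nat.card {v : Vec m F // v ∈ supp S ∧ sympForm m F u v = 1} = q ^ (2 * Sᶜ.card) := by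
  set φ : (supp S : Submodule F (Vec m F)) →+ F :=
    { toFun := fun v => sympForm m F u v.1
      map_zero' := sympForm_zero_right u
      map_add' := fun a b => sympForm_add_right u a.1 b.1 }
  obtain ⟨y, hy, hne⟩ := exists_form_ne_zero hu hu0
  have hsurj : Function.Surjective φ := fun c => ⟨(c / sympForm m F u y) • ⟨y, hy⟩, by
    simp only [φ, AddMonoidHom.coe_mk, ZeroHom.coe_mk, SetLike.val_smul, sympForm_smul_right]
    rw [div_mul_cancel₀ c hne]⟩
  obtain ⟨x, hx⟩ := hsurj 1
  have e : {v : Vec m F // v ∈ supp S ∧ sympForm m F u v = 1} ≃ φ.ker :=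
    { toFun := fun v => ⟨⟨v.1, v.2.1⟩ - x, by
        rw [AddMonoidHom.mem_ker, map_sub, hx]
        exact sub_eq_zero.2 v.2.2⟩
      invFun := fun k => ⟨(k.1 + x).1, (k.1 + x).2, by
        have h : φ (k.1 + x) = 1 := by rw [map_add, hx, k.2, zero_add]
        exact h⟩
      left_inv := fun v => Subtype.ext (by simp)
      right_inv := fun k => Subtype.ext (Subtype.ext (by simp)) }
  have h1 := φ.ker.card_mul_index
  rw [AddSubgroup.index_ker, AddMonoidHom.range_eq_top.2 hsurj, AddSubgroup.card_top,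
    Nat.card_eq_fintype_card (α := F), hF, card_supp hF] at h1
  rw [Nat.card_congr e, mul_comm, h1]

/-- The hyperbolic pairs supported outside `S`. -/
def pairSet (S : Finset (Fin m)) : Set (Vec m F × Vec m F) :=
  {p | p.1 ∈ supp S ∧ p.2 ∈ supp S ∧ sympForm m F p.1 p.2 = 1}

theorem card_pairSet (hF : Fintype.card F = q) (S : Finset (Fin m)) :
    q * (pairSet S : Set (Vec m F × Vec m F)).ncard =
      (q ^ (2 * Sᶜ.card) - 1) * q ^ (2 * Sᶜ.card) := by
  classical
  have e : (pairSet S : Set (Vec m F × Vec m F)) ≃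
      (Σ u : {u : (supp S : Submodule F (Vec m F)) // u ≠ 0},
        {v : Vec m F // v ∈ supp S ∧ sympForm m F u.1.1 v = 1}) :=
    { toFun := fun p => ⟨⟨⟨p.1.1, p.2.1⟩, fun e => by
          have h0 : p.1.1 = 0 := congrArg Subtype.val e
          have := p.2.2.2
          rw [h0, sympForm_zero_left] at this
          exact zero_ne_one this⟩, ⟨p.1.2, p.2.2⟩⟩
      invFun := fun s => ⟨(s.1.1.1, s.2.1), s.1.1.2, s.2.2⟩
      left_inv := fun _ => rfl
      right_inv := fun _ => rfl }
  rw [← Nat.card_coe_set_eq, Nat.card_congr e, Nat.card_sigma, Finset.mul_sum]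
  rw [Finset.sum_congr rfl fun u _ => card_fibre hF u.1.2 fun e => u.2 (Subtype.ext e),
    Finset.sum_const, smul_eq_mul, Finset.card_univ, Fintype.card_subtype_compl,
    Fintype.card_subtype_eq, ← Nat.card_eq_fintype_card, card_supp hF]

theorem card_fixPairs_succ {S : Finset (Fin m)} {j : Fin m} (hj : j ∉ S) :
    Nat.card (fixPairs S : Subgroup (Sp m F)) =
      (pairSet S : Set (Vec m F × Vec m F)).ncard *
        Nat.card (fixPairs (insert j S) : Subgroup (Sp m F)) := by
  set H : Subgroup (Sp m F) := fixPairs S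
  set p : Vec m F × Vec m F := (fI j, eI j)
  have horb : MulAction.orbit H p = pairSet S := by
    ext ⟨a, b⟩
    constructor
    · rintro ⟨g, hg⟩
      rw [← hg]
      refine ⟨smul_mem_supp g.2 (fI_mem_supp hj), smul_mem_supp g.2 (eI_mem_supp hj), ?_⟩
      exact (sympForm_smul_smul g.1 _ _).trans (sympForm_fI_eI j)
    · rintro ⟨ha, hb, hab⟩
      obtain ⟨g, hg, hga, hgb⟩ := exists_move_pair (fI_mem_supp hj) (eI_mem_supp hj) ha hb
        (sympForm_fI_eI j) hab
      exact ⟨⟨g, tvGroup_le_fixPairs S hg⟩, Prod.ext hga hgb⟩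
  have hle : (fixPairs (insert j S) : Subgroup (Sp m F)) ≤ H := fun g hg =>
    mem_fixPairs.2 fun i hi => mem_fixPairs.1 hg i (Finset.mem_insert_of_mem hi)
  have hstab : MulAction.stabilizer H p =
      (fixPairs (insert j S) : Subgroup (Sp m F)).subgroupOf H := by
    ext g
    rw [MulAction.mem_stabilizer_iff, Subgroup.mem_subgroupOf, mem_fixPairs, Prod.ext_iff]
    constructor
    · rintro ⟨h1, h2⟩ i hi
      rcases Finset.mem_insert.1 hi with rfl | hi
      · exact ⟨h2, h1⟩
      · exact mem_fixPairs.1 g.2 i hi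
    · intro h
      exact ⟨(h j (Finset.mem_insert_self j S)).2, (h j (Finset.mem_insert_self j S)).1⟩
  rw [← (MulAction.stabilizer H p).card_mul_index, MulAction.index_stabilizer, horb, hstab,
    Nat.card_congr (Subgroup.subgroupOfEquivOfLe hle).toEquiv, mul_comm]

theorem card_fixPairs (hF : Fintype.card F = q) : ∀ (k : ℕ) (S : Finset (Fin m)), Sᶜ.card = k →
    Nat.card (fixPairs S : Subgroup (Sp m F)) =
      q ^ (k ^ 2) * ∏ i ∈ Finset.range k, (q ^ (2 * (i + 1)) - 1) := by
  intro k
  induction k with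
  | zero =>
    intro S hS
    rw [Finset.card_eq_zero, Finset.compl_eq_empty_iff] at hS
    subst hS
    simp [fixPairs_univ]
  | succ k ih =>
    intro S hS
    obtain ⟨j, hj⟩ := Finset.card_pos.1 (by omega : 0 < Sᶜ.card)
    rw [Finset.mem_compl] at hj
    have hins : (insert j S)ᶜ.card = k := by
      rw [Finset.compl_insert, Finset.card_erase_of_mem (Finset.mem_compl.2 hj), hS]
      rfl
    rw [card_fixPairs_succ hj, ih _ hins, Finset.prod_range_succ]
    have hp := card_pairSet (m := m) hF S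
    rw [hS] at hp
    have hq : 0 < q := hF ▸ Fintype.card_pos
    have hpair : (pairSet S : Set (Vec m F × Vec m F)).ncard =
        (q ^ (2 * (k + 1)) - 1) * q ^ (2 * k + 1) := by
      refine Nat.eq_of_mul_eq_mul_left hq (hp.trans ?_)
      rw [show 2 * (k + 1) = (2 * k + 1) + 1 by ring, pow_succ q (2 * k + 1)]
      ring
    rw [hpair]
    ring

theorem card_Sp (hF : Fintype.card F = q) (m : ℕ) :
    Nat.card (Sp m F) = q ^ (m ^ 2) * ∏ i ∈ Finset.range m, (q ^ (2 * (i + 1)) - 1) := by
  have h := card_fixPairs (m := m) hF m ∅ (by simp)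
  rw [fixPairs_eq_tvGroup, tvGroup_empty, Subgroup.card_top] at h
  exact h

/-- `gcd(2, q-1) |PSp_{2m}(q)| = |Sp_{2m}(q)|`. -/
theorem card_PSp (hF : Fintype.card F = q) (hm : 1 ≤ m) :
    Nat.gcd 2 (q - 1) * Nat.card (Sp m F ⧸ Subgroup.center (Sp m F)) =
      q ^ (m ^ 2) * ∏ i ∈ Finset.range m, (q ^ (2 * (i + 1)) - 1) := by
  rw [← card_Sp hF m, ← card_center hF hm,
    Subgroup.card_eq_card_quotient_mul_card_subgroup (Subgroup.center (Sp m F)), mul_comm]

end Cfsg.Agent.Symplectic
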