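import Cfsg.Agent.Lib.Symplectic.Perfect

/-!
The centre of the symplectic group, primitivity on points, and simplicity of `PSp`.
-/

set_option autoImplicit false

namespace Cfsg.Agent.Symplectic

open Matrix MulAction
open scoped LinearAlgebra.Projectivization Pointwise

variable {m : ℕ} {F : Type*} [Field F]

/-! ### Elements fixing all lines, and the centre -/

theorem exists_nonorth {u v : Vec m F} (hu : u ≠ 0) (hv : v ≠ 0) :
    ∃ y : Vec m F, sympForm m F u y ≠ 0 ∧ sympForm m F v y ≠ 0 := by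
  obtain ⟨a, -, ha⟩ := exists_form_ne_zero (S := ∅) (u := u) (by simp [supp_empty]) hu
  obtain ⟨b, -, hb⟩ := exists_form_ne_zero (S := ∅) (u := v) (by simp [supp_empty]) hv
  by_cases hva : sympForm m F v a = 0
  · by_cases hub : sympForm m F u b = 0
    · exact ⟨a + b, by rwa [sympForm_add_right, hub, add_zero],
        by rwa [sympForm_add_right, hva, zero_add]⟩
    · exact ⟨b, hub, hb⟩
  · exact ⟨a, ha, hva⟩

theorem exists_scalar_of_fix_lines {g : Sp m F}
    (hg : ∀ v : Vec m F, ∃ a : F, g • v = a • v) :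
    ∃ a : F, a ^ 2 = 1 ∧ ∀ v : Vec m F, g • v = a • v := by
  choose a ha using hg
  have hmul : ∀ u v, sympForm m F u v ≠ 0 → a u * a v = 1 := fun u v huv => by
    have := sympForm_smul_smul g u v
    rw [ha u, ha v, sympForm_smul_left, sympForm_smul_right, ← mul_assoc] at this
    exact (mul_eq_right₀ huv).1 this
  have heq : ∀ u v, u ≠ 0 → v ≠ 0 → a u = a v := fun u v hu hv => by
    obtain ⟨y, huy, hvy⟩ := exists_nonorth hu hv
    have h1 := hmul u y huy
    have h2 := hmul v y hvy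
    exact mul_right_cancel₀ (right_ne_zero_of_mul_eq_one h1) (h1.trans h2.symm)
  by_cases h0 : ∀ v : Vec m F, v = 0
  · exact ⟨1, one_pow 2, fun v => by simp [h0 v]⟩
  obtain ⟨u, hu⟩ := not_forall.1 h0
  refine ⟨a u, ?_, fun v => ?_⟩
  · obtain ⟨y, huy, -⟩ := exists_nonorth hu hu
    have hy : y ≠ 0 := fun e => huy (by simp [e])
    have := hmul u y huy
    rw [← heq u y hu hy] at this
    rw [sq]; exact this
  · by_cases hv : v = 0
    · simp [hv]
    · rw [heq u v hu hv]; exact ha v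

theorem fix_lines_of_mem_center {g : Sp m F} (hg : g ∈ Subgroup.center (Sp m F)) (v : Vec m F) :
    ∃ a : F, g • v = a • v := by
  by_cases hv : v = 0
  · exact ⟨0, by simp [hv]⟩
  obtain ⟨y, hvy, -⟩ := exists_nonorth hv hv
  have hyv : sympForm m F y v ≠ 0 := by rwa [sympForm_swap, neg_ne_zero]
  have h := conj_tv g v 1
  rw [← Subgroup.mem_center_iff.1 hg, mul_inv_cancel_right] at h
  have h2 := congrArg (fun k : Sp m F => k • y) h
  simp only [tv_smul, one_mul, add_right_inj] at h2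
  have hne : sympForm m F y (g • v) ≠ 0 := fun e => by
    rw [e, zero_smul] at h2
    exact (smul_ne_zero hyv hv) h2
  refine ⟨(sympForm m F y (g • v))⁻¹ * sympForm m F y v, ?_⟩
  rw [mul_smul, h2, inv_smul_smul₀ hne]

theorem mem_center_iff_fix_lines {g : Sp m F} :
    g ∈ Subgroup.center (Sp m F) ↔ ∀ v : Vec m F, ∃ a : F, g • v = a • v := by
  refine ⟨fix_lines_of_mem_center, fun h => Subgroup.mem_center_iff.2 fun k => ?_⟩
  obtain ⟨a, -, ha⟩ := exists_scalar_of_fix_lines h
  exact eq_of_smul_eq fun x => by rw [mul_smul, mul_smul, ha, ha, smul_comm k]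

/-- The element `-1` of the symplectic group. -/
def negOne : Sp m F := ⟨-1, SymplecticGroup.neg_mem (one_mem _)⟩

theorem negOne_smul (v : Vec m F) : (negOne : Sp m F) • v = -v := by
  simp [smul_eq, negOne, Matrix.neg_mulVec]

theorem mem_center_iff {g : Sp m F} :
    g ∈ Subgroup.center (Sp m F) ↔ g = 1 ∨ g = negOne := by
  rw [mem_center_iff_fix_lines]
  constructor
  · intro h
    obtain ⟨a, ha2, ha⟩ := exists_scalar_of_fix_lines h
    rcases sq_eq_one_iff.1 ha2 with rfl | rfl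
    · exact Or.inl (eq_of_smul_eq fun v => by simp [ha])
    · exact Or.inr (eq_of_smul_eq fun v => by simp [ha, negOne_smul])
  · rintro (rfl | rfl) v
    · exact ⟨1, by simp⟩
    · exact ⟨-1, by simp [negOne_smul]⟩

theorem card_center [Fintype F] {q : ℕ} (hF : Fintype.card F = q) (hm : 1 ≤ m) :
    Nat.card (Subgroup.center (Sp m F)) = Nat.gcd 2 (q - 1) := by
  classical
  have hset : ((Subgroup.center (Sp m F) : Subgroup (Sp m F)) : Set (Sp m F)) = {1, negOne} :=
    Set.ext fun g => mem_center_iff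
  have hcard : Nat.card (Subgroup.center (Sp m F)) = ({1, negOne} : Set (Sp m F)).ncard := by
    rw [← hset]; exact Nat.card_coe_set_eq _
  rw [hcard]
  have hq : 2 ≤ q := hF ▸ Fintype.one_lt_card
  by_cases h2 : (2 : F) = 0
  · have h1 : (negOne : Sp m F) = 1 := eq_of_smul_eq fun v => by
      rw [negOne_smul, one_smul]
      have hneg : (-1 : F) = 1 := by linear_combination -h2
      rw [← neg_one_smul F v, hneg, one_smul]
    have : Even q := by
      have : ringChar F = 2 := by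
        by_contra hne
        exact Ring.two_ne_zero hne h2
      rw [← hF, Nat.even_iff]
      exact FiniteField.even_card_iff_char_two.1 this
    rw [h1, Set.pair_eq_singleton, Set.ncard_singleton]
    obtain ⟨r, rfl⟩ := this
    have : Odd (r + r - 1) := ⟨r - 1, by omega⟩
    exact (Nat.coprime_two_left.2 this).gcd_eq_one.symm
  · have h1 : (1 : Sp m F) ≠ negOne := fun e => by
      have := congrArg (fun k : Sp m F => (k • (eI ⟨0, hm⟩ : Vec m F)) (Sum.inl ⟨0, hm⟩)) e
      simp [negOne_smul, eI] at this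
      exact h2 (by linear_combination this)
    rw [Set.ncard_pair h1]
    have : q % 2 = 1 := by
      rw [← hF]
      exact FiniteField.odd_card_of_char_ne_two fun e => h2 (by
        have : CharP F 2 := ringChar.of_eq e
        exact CharTwo.two_eq_zero)
    exact (Nat.gcd_eq_left (by omega)).symm

/-! ### Transitivity on orthogonal pairs and primitivity on points -/

theorem exists_smul_orth_pair_std (hm : 2 ≤ m) {u v : Vec m F} (hu : u ≠ 0)
    (huv : sympForm m F u v = 0) (hli : ∀ a : F, v ≠ a • u) :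
    ∃ g : Sp m F, g • u = eI ⟨0, by omega⟩ ∧ g • v = eI ⟨1, by omega⟩ := by
  set i : Fin m := ⟨0, by omega⟩
  set j : Fin m := ⟨1, by omega⟩
  have hij : i ≠ j := by simp [i, j]
  obtain ⟨g, hg⟩ := exists_smul_eq_of_ne_zero hu (eI_ne_zero (F := F) i)
  set v' := g • v with hv'
  have h0 : v' (Sum.inr i) = 0 := by
    have := sympForm_smul_smul g u v
    rw [hg, huv, sympForm_eI_left, neg_eq_zero] at this
    exact this
  set a := v' (Sum.inl i)
  set w := v' - a • eI i with hw
  have hwS : w ∈ supp {i} := by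
    intro k hk
    rw [Finset.mem_singleton] at hk
    subst hk
    simp [hw, a, eI, h0]
  have hw0 : w ≠ 0 := fun e => by
    apply hli a
    have : v' = a • eI i := sub_eq_zero.1 e
    rw [← inv_smul_smul g v, ← inv_smul_smul g u, hg, ← hv', this, smul_comm]
  have hjS : (eI j : Vec m F) ∈ supp {i} := eI_mem_supp (by simpa using hij.symm)
  obtain ⟨k, hk, hkw⟩ := exists_move hwS hjS hw0 (eI_ne_zero j)
  have hki := ((mem_fixPairs.1 (tvGroup_le_fixPairs _ hk)) i (Finset.mem_singleton_self i)).1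
  refine ⟨sh (eI i) (fI j) a * k * g, ?_, ?_⟩
  · rw [mul_smul, mul_smul, hg, hki, sh_smul (sympForm_eI_fI_of_ne hij), sympForm_eI_eI,
      sympForm_eI_fI_of_ne hij]
    simp
  · have : v' = a • eI i + w := by simp [hw]
    rw [mul_smul, mul_smul, ← hv', this, smul_add k, smul_comm k, hki, hkw, smul_add, smul_comm,
      sh_smul (sympForm_eI_fI_of_ne hij), sh_smul (sympForm_eI_fI_of_ne hij)]
    simp [sympForm_eI_fI, sympForm_eI_fI_of_ne hij, smul_neg]

theorem exists_smul_orth_pair (hm : 2 ≤ m) {u v u' v' : Vec m F} (hu : u ≠ 0) (hu' : u' ≠ 0)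
    (huv : sympForm m F u v = 0) (hli : ∀ a : F, v ≠ a • u)
    (huv' : sympForm m F u' v' = 0) (hli' : ∀ a : F, v' ≠ a • u') :
    ∃ g : Sp m F, g • u = u' ∧ g • v = v' := by
  obtain ⟨g, hgu, hgv⟩ := exists_smul_orth_pair_std hm hu huv hli
  obtain ⟨k, hku, hkv⟩ := exists_smul_orth_pair_std hm hu' huv' hli'
  exact ⟨k⁻¹ * g, by rw [mul_smul, hgu, ← hku, inv_smul_smul],
    by rw [mul_smul, hgv, ← hkv, inv_smul_smul]⟩

/-- The points of the polar space. -/
abbrev Pt (m : ℕ) (F : Type*) [Field F] := ℙ F (Vec m F)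

theorem smul_eq_of_rep {g : Sp m F} {p p' : Pt m F} {a : F} (h : g • p.rep = a • p'.rep) :
    g • p = p' := by
  conv_lhs => rw [← p.mk_rep, Projectivization.smul_mk]
  conv_rhs => rw [← p'.mk_rep]
  exact (Projectivization.mk_eq_mk_iff' F _ _ _ _).2 ⟨a, h.symm⟩

instance isPretransitive_points : IsPretransitive (Sp m F) (Pt m F) :=
  ⟨fun p p' => by
    obtain ⟨g, hg⟩ := exists_smul_eq_of_ne_zero p.rep_nonzero p'.rep_nonzero
    exact ⟨g, smul_eq_of_rep (a := 1) (by rw [hg, one_smul])⟩⟩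

/-- Orthogonality of points. -/
def Orth (p p' : Pt m F) : Prop := sympForm m F p.rep p'.rep = 0

theorem orth_comm {p p' : Pt m F} : Orth p p' ↔ Orth p' p := by
  rw [Orth, Orth, sympForm_swap, neg_eq_zero]

theorem orth_refl (p : Pt m F) : Orth p p := sympForm_self _

theorem ne_smul_of_ne {p p' : Pt m F} (h : p' ≠ p) (a : F) : p'.rep ≠ a • p.rep := fun e => h <| by
  rw [← p'.mk_rep, ← p.mk_rep]
  exact (Projectivization.mk_eq_mk_iff' F _ _ _ _).2 ⟨a, e.symm⟩

theorem exists_stab_smul_nonorth {p x y : Pt m F} (hx : ¬ Orth p x) (hy : ¬ Orth p y) :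
    ∃ g : Sp m F, g • p = p ∧ g • x = y := by
  obtain ⟨g, hgp, hgx⟩ := exists_smul_pair (u := p.rep)
    (v := (sympForm m F p.rep x.rep)⁻¹ • x.rep) (u' := p.rep)
    (v' := (sympForm m F p.rep y.rep)⁻¹ • y.rep)
    (by rw [sympForm_smul_right, inv_mul_cancel₀ hx])
    (by rw [sympForm_smul_right, inv_mul_cancel₀ hy])
  refine ⟨g, smul_eq_of_rep (a := 1) (by rw [hgp, one_smul]),
    smul_eq_of_rep (a := sympForm m F p.rep x.rep * (sympForm m F p.rep y.rep)⁻¹) ?_⟩
  rw [smul_comm] at hgx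
  rw [mul_smul, ← hgx, smul_inv_smul₀ hx]

theorem exists_stab_smul_orth (hm : 2 ≤ m) {p x y : Pt m F} (hx : Orth p x) (hxp : x ≠ p)
    (hy : Orth p y) (hyp : y ≠ p) : ∃ g : Sp m F, g • p = p ∧ g • x = y := by
  obtain ⟨g, hgp, hgx⟩ := exists_smul_orth_pair hm p.rep_nonzero p.rep_nonzero hx
    (ne_smul_of_ne hxp) hy (ne_smul_of_ne hyp)
  exact ⟨g, smul_eq_of_rep (a := 1) (by rw [hgp, one_smul]),
    smul_eq_of_rep (a := 1) (by rw [hgx, one_smul])⟩

theorem exists_pt_nonorth (p r : Pt m F) : ∃ s : Pt m F, ¬ Orth p s ∧ ¬ Orth s r := by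
  obtain ⟨y, hp, hr⟩ := exists_nonorth p.rep_nonzero r.rep_nonzero
  have hy : y ≠ 0 := fun e => hp (by simp [e])
  obtain ⟨a, ha⟩ := (Projectivization.mk_eq_mk_iff' F _ _
    (Projectivization.rep_nonzero _) hy).1 (Projectivization.mk_rep (Projectivization.mk F y hy))
  have ha0 : a ≠ 0 := fun e =>
    Projectivization.rep_nonzero (Projectivization.mk F y hy) (by rw [← ha, e, zero_smul])
  refine ⟨Projectivization.mk F y hy, ?_, ?_⟩ <;>
    simp only [Orth, ← ha, sympForm_smul_left, sympForm_smul_right]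
  · exact mul_ne_zero ha0 hp
  · refine mul_ne_zero ha0 ?_
    rwa [sympForm_swap, neg_ne_zero]

theorem exists_pt_orth (hm : 2 ≤ m) {p r : Pt m F} (h : ¬ Orth p r) :
    ∃ s : Pt m F, Orth p s ∧ s ≠ p ∧ Orth s r ∧ s ≠ r := by
  set i : Fin m := ⟨0, by omega⟩
  set j : Fin m := ⟨1, by omega⟩
  have hij : i ≠ j := by simp [i, j]
  obtain ⟨g, hgp, hgr⟩ := exists_smul_pair (u := fI i) (v := eI i) (u' := p.rep)
    (v' := (sympForm m F p.rep r.rep)⁻¹ • r.rep) (sympForm_fI_eI i)
    (by rw [sympForm_smul_right, inv_mul_cancel₀ h])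
  have hw : g • (eI j : Vec m F) ≠ 0 := smul_ne_zero_of_ne_zero g (eI_ne_zero j)
  obtain ⟨a, ha⟩ := (Projectivization.mk_eq_mk_iff' F _ _ (Projectivization.rep_nonzero _) hw).1
    (Projectivization.mk_rep (Projectivization.mk F _ hw))
  set s := Projectivization.mk F (g • (eI j : Vec m F)) hw
  have hps : Orth p s := by
    rw [Orth, ← ha, sympForm_smul_right, ← hgp, sympForm_smul_smul, sympForm_swap,
      sympForm_eI_fI_of_ne hij.symm, neg_zero, mul_zero]
  have hsr : Orth s r := by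
    have : r.rep = sympForm m F p.rep r.rep • (g • (eI i : Vec m F)) := by
      rw [hgr, smul_inv_smul₀ h]
    rw [Orth, ← ha, this, sympForm_smul_left, sympForm_smul_right, sympForm_smul_smul,
      sympForm_eI_eI, mul_zero, mul_zero]
  exact ⟨s, hps, fun e => h (e ▸ hsr), hsr, fun e => h (e ▸ hps)⟩

theorem smul_mem_block {B : Set (Pt m F)} (hB : IsBlock (Sp m F) B) {p x : Pt m F}
    (hp : p ∈ B) (hx : x ∈ B) {g : Sp m F} (hg : g • p = p) : g • x ∈ B := by
  have hfix : g • B = B := by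
    rcases hB.smul_eq_or_disjoint g with h | h
    · exact h
    · exact absurd hp (Set.disjoint_left.1 h ⟨p, hp, hg⟩)
  rw [← hfix]
  exact Set.smul_mem_smul_set hx

theorem isPreprimitive_points (hm : 2 ≤ m) : IsPreprimitive (Sp m F) (Pt m F) := by
  refine IsPreprimitive.mk ?_
  intro B hB
  by_cases hsub : B.Subsingleton
  · exact Or.inl hsub
  refine Or.inr (Set.eq_univ_of_forall ?_)
  obtain ⟨p, hp, x, hx, hpx⟩ := Set.not_subsingleton_iff.1 hsub
  have no : ∀ {p x : Pt m F}, p ∈ B → x ∈ B → ¬ Orth p x → ∀ y, ¬ Orth p y → y ∈ B := by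
    intro p x hp hx h y hy
    obtain ⟨g, hgp, rfl⟩ := exists_stab_smul_nonorth h hy
    exact smul_mem_block hB hp hx hgp
  have oo : ∀ {p x : Pt m F}, p ∈ B → x ∈ B → Orth p x → x ≠ p →
      ∀ y, Orth p y → y ≠ p → y ∈ B := by
    intro p x hp hx h hne y hy hyne
    obtain ⟨g, hgp, rfl⟩ := exists_stab_smul_orth hm h hne hy hyne
    exact smul_mem_block hB hp hx hgp
  intro r
  by_cases hpxo : Orth p x
  · by_cases hrp : r = p
    · exact hrp ▸ hp
    by_cases hpr : Orth p r
    · exact oo hp hx hpxo (Ne.symm hpx) r hpr hrp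
    · obtain ⟨s, hps, hsp, hsr, hsr'⟩ := exists_pt_orth hm hpr
      exact oo (oo hp hx hpxo (Ne.symm hpx) s hps hsp) hp (orth_comm.1 hps) (Ne.symm hsp) r hsr
        (Ne.symm hsr')
  · by_cases hpr : Orth p r
    · obtain ⟨s, hps, hsr⟩ := exists_pt_nonorth p r
      exact no (no hp hx hpxo s hps) hp (mt orth_comm.1 hps) r hsr
    · exact no hp hx hpxo r hpr

/-! ### The Iwasawa structure -/

/-- The root group of a vector. -/
def rootGroup (w : Vec m F) : Subgroup (Sp m F) where
  carrier := {g | ∃ c, g = tv w c}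
  mul_mem' := by rintro _ _ ⟨c, rfl⟩ ⟨d, rfl⟩; exact ⟨c + d, tv_mul_tv w c d⟩
  one_mem' := ⟨0, (tv_zero w).symm⟩
  inv_mem' := by rintro _ ⟨c, rfl⟩; exact ⟨-c, tv_inv w c⟩

theorem mem_rootGroup {w : Vec m F} {g : Sp m F} : g ∈ rootGroup w ↔ ∃ c, g = tv w c := Iff.rfl

theorem rootGroup_smul_vec {w : Vec m F} {a : F} (ha : a ≠ 0) :
    rootGroup (a • w) = rootGroup w := by
  ext g
  simp only [mem_rootGroup, tv_smul_vec]
  exact ⟨fun ⟨c, hc⟩ => ⟨_, hc⟩,
    fun ⟨c, hc⟩ => ⟨(a ^ 2)⁻¹ * c, by rwa [mul_inv_cancel_left₀ (pow_ne_zero 2 ha)]⟩⟩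

/-- The Iwasawa structure of root groups on points. -/
noncomputable def iwasawa : IwasawaStructure (Sp m F) (Pt m F) where
  T p := rootGroup p.rep
  is_comm p := ⟨⟨fun ⟨g, hg⟩ ⟨h, hh⟩ => by
    obtain ⟨c, rfl⟩ := hg
    obtain ⟨d, rfl⟩ := hh
    exact Subtype.ext (by simp only [Subgroup.coe_mul, tv_mul_tv, add_comm])⟩⟩
  is_conj g p := by
    have hne := smul_ne_zero_of_ne_zero g p.rep_nonzero
    obtain ⟨a, ha⟩ := (Projectivization.mk_eq_mk_iff' F _ _ (g • p).rep_nonzero hne).1
      (by rw [Projectivization.mk_rep, ← Projectivization.smul_mk g p.rep_nonzero,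
        Projectivization.mk_rep])
    have ha0 : a ≠ 0 := fun e => (g • p).rep_nonzero (by rw [← ha, e, zero_smul])
    rw [← ha, rootGroup_smul_vec ha0]
    ext k
    rw [mem_rootGroup, Subgroup.mem_pointwise_smul_iff_inv_smul_mem, mem_rootGroup]
    simp only [MulAut.smul_def, MulAut.conj_inv_apply]
    constructor
    · rintro ⟨c, rfl⟩
      exact ⟨c, by rw [← conj_tv]; group⟩
    · rintro ⟨c, hc⟩
      exact ⟨c, by rw [← conj_tv, ← hc]; group⟩
  is_generator := by
    rw [eq_top_iff, ← tvGroup_empty, tvGroup, Subgroup.closure_le]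
    rintro _ ⟨w, -, c, rfl⟩
    by_cases hw : w = 0
    · have : tv w c = 1 := eq_of_smul_eq fun x => by simp [tv_smul, hw]
      rw [this]
      exact one_mem _
    · obtain ⟨a, ha⟩ := (Projectivization.mk_eq_mk_iff' F _ _ hw
        (Projectivization.rep_nonzero _)).1 (Projectivization.mk_rep (Projectivization.mk F w hw)).symm
      refine Subgroup.mem_iSup_of_mem (Projectivization.mk F w hw) ?_
      rw [mem_rootGroup]
      exact ⟨a ^ 2 * c, by conv_lhs => rw [← ha, tv_smul_vec]⟩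

theorem center_ne_top (hm : 1 ≤ m) : Subgroup.center (Sp m F) ≠ ⊤ := by
  intro h
  have hmem : tv (eI ⟨0, hm⟩ : Vec m F) 1 ∈ Subgroup.center (Sp m F) := h ▸ Subgroup.mem_top _
  obtain ⟨a, ha⟩ := fix_lines_of_mem_center hmem (fI ⟨0, hm⟩)
  rw [tv_smul, sympForm_fI_eI] at ha
  have := congrFun ha (Sum.inl ⟨0, hm⟩)
  simp [eI, fI] at this

/-- Simplicity of `PSp_{2m}` as soon as `Sp_{2m}` is perfect. -/
theorem isSimpleGroup_PSp (hm : 2 ≤ m) (hperf : commutator (Sp m F) = ⊤) :
    IsSimpleGroup (Sp m F ⧸ Subgroup.center (Sp m F)) := by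
  have : IsPreprimitive (Sp m F) (Pt m F) := isPreprimitive_points hm
  have : Nontrivial (Sp m F ⧸ Subgroup.center (Sp m F)) :=
    QuotientGroup.nontrivial_iff.2 (center_ne_top (by omega))
  refine ⟨fun N hN => ?_⟩
  set π := QuotientGroup.mk' (Subgroup.center (Sp m F))
  have hsurj : Function.Surjective π := QuotientGroup.mk'_surjective _
  have hNeq : (N.comap π).map π = N := Subgroup.map_comap_eq_self_of_surjective hsurj N
  by_cases hfix : fixedPoints (N.comap π) (Pt m F) = .univ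
  · left
    rw [← hNeq, Subgroup.map_eq_bot_iff, QuotientGroup.ker_mk']
    intro g hg
    rw [mem_center_iff_fix_lines]
    intro v
    by_cases hv : v = 0
    · exact ⟨0, by simp [hv]⟩
    have h := (Set.eq_univ_iff_forall.1 hfix (Projectivization.mk F v hv)) ⟨g, hg⟩
    rw [Subgroup.mk_smul, Projectivization.smul_mk] at h
    obtain ⟨a, ha⟩ := (Projectivization.mk_eq_mk_iff' F _ _ _ _).1 h
    exact ⟨a, ha.symm⟩
  · right
    have := iwasawa.commutator_le (N.comap π) hfix
    rw [hperf, top_le_iff] at this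
    rw [← hNeq, this, Subgroup.map_top_of_surjective _ hsurj]

end Cfsg.Agent.Symplectic
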