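import Cfsg.Prelude.Def_ClassicalGeometry

/-!
The symplectic group `Sp m F` of `Cfsg.sympForm m F`: transvections, transitivity on vectors and
hyperbolic pairs, and generation by transvections.
-/

set_option autoImplicit false

namespace Cfsg.Agent.Symplectic

open Matrix

variable {m : ℕ} {F : Type*} [Field F]

/-- Mathlib's symplectic group in rank `m`. -/
abbrev Sp (m : ℕ) (F : Type*) [Field F] := Matrix.symplecticGroup (Fin m) F

/-- The underlying vectors. -/
abbrev Vec (m : ℕ) (F : Type*) := Fin m ⊕ Fin m → F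

theorem J_mulVec (v : Vec m F) :
    Matrix.J (Fin m) F *ᵥ v = Sum.elim (fun i => -v (Sum.inr i)) (fun i => v (Sum.inl i)) := by
  funext i
  rcases i with i | i <;> simp [Matrix.J, Matrix.fromBlocks_mulVec, Matrix.neg_mulVec]

theorem sympForm_eq_sum (u v : Vec m F) :
    sympForm m F u v = ∑ i, (u (Sum.inr i) * v (Sum.inl i) - u (Sum.inl i) * v (Sum.inr i)) := by
  simp only [sympForm, J_mulVec, dotProduct, Fintype.sum_sum_type, Sum.elim_inl, Sum.elim_inr,
    mul_neg, Finset.sum_neg_distrib, Finset.sum_sub_distrib]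
  ring

theorem sympForm_swap (u v : Vec m F) : sympForm m F u v = -sympForm m F v u := by
  simp only [sympForm_eq_sum, ← Finset.sum_neg_distrib]
  exact Finset.sum_congr rfl fun i _ => by ring

@[simp] theorem sympForm_self (u : Vec m F) : sympForm m F u u = 0 := by
  simp [sympForm_eq_sum, mul_comm]

theorem sympForm_add_left (u u' v : Vec m F) :
    sympForm m F (u + u') v = sympForm m F u v + sympForm m F u' v := by
  simp [sympForm, add_dotProduct]

theorem sympForm_add_right (u v v' : Vec m F) :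
    sympForm m F u (v + v') = sympForm m F u v + sympForm m F u v' := by
  simp [sympForm, Matrix.mulVec_add, dotProduct_add]

theorem sympForm_sub_left (u u' v : Vec m F) :
    sympForm m F (u - u') v = sympForm m F u v - sympForm m F u' v := by
  simp [sympForm, sub_dotProduct]

theorem sympForm_sub_right (u v v' : Vec m F) :
    sympForm m F u (v - v') = sympForm m F u v - sympForm m F u v' := by
  simp [sympForm, Matrix.mulVec_sub, dotProduct_sub]

theorem sympForm_smul_left (a : F) (u v : Vec m F) :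
    sympForm m F (a • u) v = a * sympForm m F u v := by
  simp [sympForm, smul_dotProduct]

theorem sympForm_smul_right (a : F) (u v : Vec m F) :
    sympForm m F u (a • v) = a * sympForm m F u v := by
  simp [sympForm, Matrix.mulVec_smul, dotProduct_smul]

@[simp] theorem sympForm_zero_left (v : Vec m F) : sympForm m F 0 v = 0 := by simp [sympForm]

@[simp] theorem sympForm_zero_right (v : Vec m F) : sympForm m F v 0 = 0 := by simp [sympForm]

theorem sympForm_mulVec (A : Matrix (Fin m ⊕ Fin m) (Fin m ⊕ Fin m) F) (u v : Vec m F) :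
    sympForm m F (A *ᵥ u) (A *ᵥ v) = u ⬝ᵥ ((Aᵀ * Matrix.J (Fin m) F * A) *ᵥ v) := by
  rw [sympForm, ← Matrix.mulVec_mulVec, ← Matrix.mulVec_mulVec,
    Matrix.dotProduct_mulVec u Aᵀ, Matrix.vecMul_transpose]

theorem mem_iff_form (A : Matrix (Fin m ⊕ Fin m) (Fin m ⊕ Fin m) F) :
    A ∈ Matrix.symplecticGroup (Fin m) F ↔
      ∀ u v, sympForm m F (A *ᵥ u) (A *ᵥ v) = sympForm m F u v := by
  rw [SymplecticGroup.mem_iff']
  constructor
  · intro h u v
    rw [sympForm_mulVec, h, sympForm]
  · intro h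
    ext i j
    have := h (Pi.single i 1) (Pi.single j 1)
    rw [sympForm_mulVec, sympForm] at this
    simpa [Matrix.mulVec_single] using this

theorem smul_eq (g : Sp m F) (v : Vec m F) :
    g • v = (g : Matrix (Fin m ⊕ Fin m) (Fin m ⊕ Fin m) F) *ᵥ v := rfl

@[simp] theorem sympForm_smul_smul (g : Sp m F) (u v : Vec m F) :
    sympForm m F (g • u) (g • v) = sympForm m F u v :=
  (mem_iff_form _).1 g.2 u v

theorem eq_of_smul_eq {g h : Sp m F} (hgh : ∀ v : Vec m F, g • v = h • v) : g = h :=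
  Subtype.ext (Matrix.ext_of_mulVec_single fun i => hgh (Pi.single i 1))

theorem smul_ne_zero_of_ne_zero (g : Sp m F) {v : Vec m F} (hv : v ≠ 0) : g • v ≠ 0 :=
  (smul_ne_zero_iff_ne g).2 hv

/-! ### Transvections -/

theorem sympTransvection_mulVec (w : Vec m F) (c : F) (x : Vec m F) :
    sympTransvection m w c *ᵥ x = x + (c * sympForm m F x w) • w := by
  rw [sympTransvection, Matrix.add_mulVec, Matrix.one_mulVec, Matrix.smul_mulVec,
    Matrix.vecMulVec_mulVec, sympForm, dotProduct_comm]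
  simp [smul_smul]

theorem sympTransvection_mem (w : Vec m F) (c : F) :
    sympTransvection m w c ∈ Matrix.symplecticGroup (Fin m) F := by
  rw [mem_iff_form]
  intro u v
  simp only [sympTransvection_mulVec, sympForm_add_left, sympForm_add_right, sympForm_smul_left,
    sympForm_smul_right, sympForm_self]
  rw [sympForm_swap w v]
  ring

/-- The transvection `x ↦ x + c f(x, w) w` as a group element. -/
def tv (w : Vec m F) (c : F) : Sp m F :=
  ⟨sympTransvection m w c, sympTransvection_mem w c⟩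

theorem tv_smul (w : Vec m F) (c : F) (x : Vec m F) :
    tv w c • x = x + (c * sympForm m F x w) • w := sympTransvection_mulVec w c x

theorem tv_smul_of_orth {w : Vec m F} (c : F) {x : Vec m F} (h : sympForm m F x w = 0) :
    tv w c • x = x := by
  simp [tv_smul, h]

theorem tv_mul_tv (w : Vec m F) (c d : F) : tv w c * tv w d = tv w (c + d) :=
  eq_of_smul_eq fun x => by
    simp only [mul_smul, tv_smul, sympForm_add_left, sympForm_smul_left, sympForm_self]
    module

@[simp] theorem tv_zero (w : Vec m F) : tv w 0 = 1 :=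
  eq_of_smul_eq fun x => by simp [tv_smul]

theorem tv_inv (w : Vec m F) (c : F) : (tv w c)⁻¹ = tv w (-c) :=
  inv_eq_of_mul_eq_one_right (by simp [tv_mul_tv])

theorem tv_smul_vec (w : Vec m F) (a c : F) : tv (a • w) c = tv w (a ^ 2 * c) :=
  eq_of_smul_eq fun x => by
    simp only [tv_smul, sympForm_smul_right, smul_smul]
    ring_nf

theorem conj_tv (g : Sp m F) (w : Vec m F) (c : F) : g * tv w c * g⁻¹ = tv (g • w) c :=
  eq_of_smul_eq fun x => by
    rw [mul_smul, mul_smul, tv_smul, tv_smul, smul_add, smul_inv_smul, smul_comm g]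
    congr 3
    rw [← sympForm_smul_smul g, smul_inv_smul]

/-! ### The standard basis and coordinate subspaces -/

/-- The standard vector `e i`. -/
def eI (i : Fin m) : Vec m F := Pi.single (Sum.inl i) 1

/-- The standard vector `f i`. -/
def fI (i : Fin m) : Vec m F := Pi.single (Sum.inr i) 1

theorem sympForm_eI_left (i : Fin m) (x : Vec m F) : sympForm m F (eI i) x = -x (Sum.inr i) := by
  simp [sympForm, eI, J_mulVec]

theorem sympForm_fI_left (i : Fin m) (x : Vec m F) : sympForm m F (fI i) x = x (Sum.inl i) := by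
  simp [sympForm, fI, J_mulVec]

theorem sympForm_eI_right (i : Fin m) (x : Vec m F) : sympForm m F x (eI i) = x (Sum.inr i) := by
  rw [sympForm_swap, sympForm_eI_left, neg_neg]

theorem sympForm_fI_right (i : Fin m) (x : Vec m F) : sympForm m F x (fI i) = -x (Sum.inl i) := by
  rw [sympForm_swap, sympForm_fI_left]

theorem sympForm_fI_eI (i : Fin m) : sympForm m F (fI i) (eI i) = (1 : F) := by
  simp [sympForm_fI_left, eI]

@[simp] theorem sympForm_eI_eI (i j : Fin m) : sympForm m F (eI i) (eI j) = (0 : F) := by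
  rw [sympForm_eI_left]; simp [eI]

@[simp] theorem sympForm_fI_fI (i j : Fin m) : sympForm m F (fI i) (fI j) = (0 : F) := by
  rw [sympForm_fI_left]; simp [fI]

theorem sympForm_eI_fI (i : Fin m) : sympForm m F (eI i) (fI i) = (-1 : F) := by
  rw [sympForm_eI_left]; simp [fI]

theorem sympForm_eI_fI_of_ne {i j : Fin m} (h : i ≠ j) :
    sympForm m F (eI i) (fI j) = (0 : F) := by
  rw [sympForm_eI_left]; simp [fI, h]

theorem eI_ne_zero (i : Fin m) : (eI i : Vec m F) ≠ 0 := by simp [eI, Pi.single_eq_zero_iff]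

theorem fI_ne_zero (i : Fin m) : (fI i : Vec m F) ≠ 0 := by simp [fI, Pi.single_eq_zero_iff]

/-- Vectors supported outside the coordinate pairs in `S`. -/
def supp (S : Finset (Fin m)) : Submodule F (Vec m F) where
  carrier := {v | ∀ i ∈ S, v (Sum.inl i) = 0 ∧ v (Sum.inr i) = 0}
  add_mem' ha hb i hi := by simp [ha i hi, hb i hi]
  zero_mem' := by simp
  smul_mem' a v hv i hi := by simp [hv i hi]

theorem mem_supp {S : Finset (Fin m)} {v : Vec m F} :
    v ∈ supp S ↔ ∀ i ∈ S, v (Sum.inl i) = 0 ∧ v (Sum.inr i) = 0 := Iff.rfl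

theorem supp_empty : (supp ∅ : Submodule F (Vec m F)) = ⊤ := by ext; simp [mem_supp]

theorem supp_anti {S T : Finset (Fin m)} (h : S ⊆ T) :
    (supp T : Submodule F (Vec m F)) ≤ supp S := fun _ hv i hi => hv i (h hi)

theorem eI_mem_supp {S : Finset (Fin m)} {i : Fin m} (hi : i ∉ S) :
    (eI i : Vec m F) ∈ supp S := by
  intro j hj
  have : j ≠ i := fun h => hi (h ▸ hj)
  simp [eI, this]

theorem fI_mem_supp {S : Finset (Fin m)} {i : Fin m} (hi : i ∉ S) :
    (fI i : Vec m F) ∈ supp S := by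
  intro j hj
  have : j ≠ i := fun h => hi (h ▸ hj)
  simp [fI, this]

theorem exists_form_ne_zero {S : Finset (Fin m)} {u : Vec m F} (hu : u ∈ supp S) (hu0 : u ≠ 0) :
    ∃ y ∈ supp S, sympForm m F u y ≠ 0 := by
  obtain ⟨j, hj⟩ := Function.ne_iff.1 hu0
  rcases j with j | j
  · exact ⟨fI j, fI_mem_supp fun h => hj (hu j h).1, by simpa [sympForm_fI_right] using hj⟩
  · exact ⟨eI j, eI_mem_supp fun h => hj (hu j h).2, by simpa [sympForm_eI_right] using hj⟩

/-- The pointwise stabiliser of the coordinate pairs in `S`. -/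
def fixPairs (S : Finset (Fin m)) : Subgroup (Sp m F) :=
  ⨅ i ∈ S, MulAction.stabilizer (Sp m F) (eI i : Vec m F) ⊓
    MulAction.stabilizer (Sp m F) (fI i : Vec m F)

theorem mem_fixPairs {S : Finset (Fin m)} {g : Sp m F} :
    g ∈ fixPairs S ↔ ∀ i ∈ S, g • (eI i : Vec m F) = eI i ∧ g • (fI i : Vec m F) = fI i := by
  simp [fixPairs, Subgroup.mem_iInf, MulAction.mem_stabilizer_iff]

theorem smul_mem_supp {S : Finset (Fin m)} {g : Sp m F} (hg : g ∈ fixPairs S) {v : Vec m F}
    (hv : v ∈ supp S) : g • v ∈ supp S := by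
  intro i hi
  obtain ⟨he, hf⟩ := mem_fixPairs.1 hg i hi
  constructor
  · rw [← sympForm_fI_left i (g • v), ← hf, sympForm_smul_smul, sympForm_fI_left, (hv i hi).1]
  · have := sympForm_smul_smul g (eI i) v
    rw [he, sympForm_eI_left, sympForm_eI_left, (hv i hi).2] at this
    simpa using this

/-- The subgroup generated by transvections with centre supported outside `S`. -/
def tvGroup (S : Finset (Fin m)) : Subgroup (Sp m F) :=
  Subgroup.closure {g | ∃ w ∈ (supp S : Submodule F (Vec m F)), ∃ c, g = tv w c}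

theorem tv_mem_tvGroup {S : Finset (Fin m)} {w : Vec m F} (hw : w ∈ supp S) (c : F) :
    tv w c ∈ tvGroup S :=
  Subgroup.subset_closure ⟨w, hw, c, rfl⟩

theorem tvGroup_anti {S T : Finset (Fin m)} (h : S ⊆ T) :
    (tvGroup T : Subgroup (Sp m F)) ≤ tvGroup S :=
  Subgroup.closure_mono fun _ ⟨w, hw, c, hg⟩ => ⟨w, supp_anti h hw, c, hg⟩

theorem tvGroup_le_fixPairs (S : Finset (Fin m)) :
    (tvGroup S : Subgroup (Sp m F)) ≤ fixPairs S := by
  rw [tvGroup, Subgroup.closure_le]
  rintro _ ⟨w, hw, c, rfl⟩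
  exact mem_fixPairs.2 fun i hi => ⟨tv_smul_of_orth c (by simp [sympForm_eI_left, (hw i hi).2]),
    tv_smul_of_orth c (by simp [sympForm_fI_left, (hw i hi).1])⟩

theorem tv_maps {u u' : Vec m F} (h : sympForm m F u u' ≠ 0) :
    tv (u' - u) (sympForm m F u u')⁻¹ • u = u' := by
  rw [tv_smul, sympForm_sub_right, sympForm_self, sub_zero, inv_mul_cancel₀ h, one_smul]
  abel

theorem exists_move {S : Finset (Fin m)} {u u' : Vec m F} (hu : u ∈ supp S) (hu' : u' ∈ supp S)
    (h : u ≠ 0) (h' : u' ≠ 0) : ∃ g ∈ (tvGroup S : Subgroup (Sp m F)), g • u = u' := by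
  obtain ⟨y, hy, hyu, hyu'⟩ :
      ∃ y ∈ supp S, sympForm m F u y ≠ 0 ∧ sympForm m F y u' ≠ 0 := by
    obtain ⟨a, ha, hau⟩ := exists_form_ne_zero hu h
    obtain ⟨b, hb, hbu⟩ := exists_form_ne_zero hu' h'
    have hbu2 : sympForm m F b u' ≠ 0 := by rwa [sympForm_swap, neg_ne_zero]
    by_cases ha' : sympForm m F a u' = 0
    · by_cases hb' : sympForm m F u b = 0
      · refine ⟨a + b, add_mem ha hb, ?_, ?_⟩
        · rwa [sympForm_add_right, hb', add_zero]
        · rwa [sympForm_add_left, ha', zero_add]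
      · exact ⟨b, hb, hb', hbu2⟩
    · exact ⟨a, ha, hau, ha'⟩
  exact ⟨tv (u' - y) _ * tv (y - u) _,
    mul_mem (tv_mem_tvGroup (sub_mem hu' hy) _) (tv_mem_tvGroup (sub_mem hy hu) _),
    by rw [mul_smul, tv_maps hyu, tv_maps hyu']⟩

theorem exists_move_fix {S : Finset (Fin m)} {u v v' : Vec m F} (hu : u ∈ supp S)
    (hv : v ∈ supp S) (hv' : v' ∈ supp S)
    (h : sympForm m F u v = 1) (h' : sympForm m F u v' = 1) :
    ∃ g ∈ (tvGroup S : Subgroup (Sp m F)), g • u = u ∧ g • v = v' := by
  by_cases hvv : sympForm m F v v' = 0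
  · have h1 : sympForm m F v (u + v) ≠ 0 := by
      rw [sympForm_add_right, sympForm_self, sympForm_swap, h]; simp
    have h2 : sympForm m F (u + v) v' ≠ 0 := by simp [sympForm_add_left, hvv, h']
    refine ⟨tv (v' - (u + v)) _ * tv (u + v - v) _,
      mul_mem (tv_mem_tvGroup (sub_mem hv' (add_mem hu hv)) _)
        (tv_mem_tvGroup (sub_mem (add_mem hu hv) hv) _), ?_,
      by rw [mul_smul, tv_maps h1, tv_maps h2]⟩
    have f1 : sympForm m F u (v' - (u + v)) = 0 := by
      simp [sympForm_sub_right, sympForm_add_right, h, h']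
    have f2 : sympForm m F u (u + v - v) = 0 := by simp
    rw [mul_smul, tv_smul_of_orth _ f2, tv_smul_of_orth _ f1]
  · refine ⟨tv (v' - v) _, tv_mem_tvGroup (sub_mem hv' hv) _, tv_smul_of_orth _ ?_, tv_maps hvv⟩
    simp [sympForm_sub_right, h, h']

theorem exists_move_pair {S : Finset (Fin m)} {u v u' v' : Vec m F} (hu : u ∈ supp S)
    (hv : v ∈ supp S) (hu' : u' ∈ supp S) (hv' : v' ∈ supp S)
    (h : sympForm m F u v = 1) (h' : sympForm m F u' v' = 1) :
    ∃ g ∈ (tvGroup S : Subgroup (Sp m F)), g • u = u' ∧ g • v = v' := by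
  have hu0 : u ≠ 0 := fun e => by simp [e] at h
  have hu0' : u' ≠ 0 := fun e => by simp [e] at h'
  obtain ⟨g₁, hg₁, hgu⟩ := exists_move hu hu' hu0 hu0'
  have hgv : g₁ • v ∈ supp S := smul_mem_supp (tvGroup_le_fixPairs S hg₁) hv
  have hf : sympForm m F u' (g₁ • v) = 1 := by rw [← hgu, sympForm_smul_smul, h]
  obtain ⟨g₂, hg₂, hg2u, hg2v⟩ := exists_move_fix hu' hgv hv' hf h'
  exact ⟨g₂ * g₁, mul_mem hg₂ hg₁, by rw [mul_smul, hgu, hg2u], by rw [mul_smul, hg2v]⟩

theorem fixPairs_univ : (fixPairs Finset.univ : Subgroup (Sp m F)) = ⊥ := by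
  rw [Subgroup.eq_bot_iff_forall]
  intro g hg
  refine Subtype.ext (Matrix.ext_of_mulVec_single fun i => ?_)
  rw [OneMemClass.coe_one, Matrix.one_mulVec]
  rcases i with i | i
  · exact (mem_fixPairs.1 hg i (Finset.mem_univ _)).1
  · exact (mem_fixPairs.1 hg i (Finset.mem_univ _)).2

theorem fixPairs_eq_tvGroup (S : Finset (Fin m)) :
    (fixPairs S : Subgroup (Sp m F)) = tvGroup S := by
  refine le_antisymm ?_ (tvGroup_le_fixPairs S)
  induction hn : Sᶜ.card using Nat.strong_induction_on generalizing S with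
  | _ n ih =>
    intro g hg
    by_cases hS : S = Finset.univ
    · subst hS
      rw [fixPairs_univ, Subgroup.mem_bot] at hg
      subst hg
      exact one_mem _
    obtain ⟨j, hj⟩ : ∃ j, j ∉ S := by
      simpa [Finset.eq_univ_iff_forall] using hS
    have he := eI_mem_supp (F := F) hj
    have hf := fI_mem_supp (F := F) hj
    obtain ⟨k, hk, hkf, hke⟩ := exists_move_pair (smul_mem_supp hg hf) (smul_mem_supp hg he) hf he
      (by rw [sympForm_smul_smul, sympForm_fI_eI]) (sympForm_fI_eI j)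
    have hkg : k * g ∈ fixPairs (insert j S) := by
      rw [mem_fixPairs]
      intro i hi
      rcases Finset.mem_insert.1 hi with rfl | hi
      · exact ⟨by rw [mul_smul, hke], by rw [mul_smul, hkf]⟩
      · obtain ⟨a, b⟩ := mem_fixPairs.1 hg i hi
        obtain ⟨c, d⟩ := mem_fixPairs.1 (tvGroup_le_fixPairs S hk) i hi
        exact ⟨by rw [mul_smul, a, c], by rw [mul_smul, b, d]⟩
    have hlt : (insert j S)ᶜ.card < n := by
      rw [← hn]
      exact Finset.card_lt_card (Finset.compl_ssubset_compl.2 (Finset.ssubset_insert hj))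
    have := tvGroup_anti (Finset.subset_insert j S) (ih _ hlt (insert j S) rfl hkg)
    have h2 := mul_mem (inv_mem hk) this
    rwa [inv_mul_cancel_left] at h2

theorem tvGroup_empty : (tvGroup ∅ : Subgroup (Sp m F)) = ⊤ := by
  rw [← fixPairs_eq_tvGroup, fixPairs]
  simp

theorem closure_transvections :
    Subgroup.closure {g : Sp m F | ∃ (w : Vec m F) (c : F),
      (g : Matrix (Fin m ⊕ Fin m) (Fin m ⊕ Fin m) F) = sympTransvection m w c} = ⊤ := by
  rw [eq_top_iff, ← tvGroup_empty, tvGroup]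
  refine Subgroup.closure_mono ?_
  rintro _ ⟨w, -, c, rfl⟩
  exact ⟨w, c, rfl⟩

theorem exists_smul_eq_of_ne_zero {u u' : Vec m F} (h : u ≠ 0) (h' : u' ≠ 0) :
    ∃ g : Sp m F, g • u = u' := by
  obtain ⟨g, -, hg⟩ := exists_move (S := ∅) (by simp [supp_empty]) (by simp [supp_empty]) h h'
  exact ⟨g, hg⟩

theorem exists_smul_pair {u v u' v' : Vec m F} (h : sympForm m F u v = 1)
    (h' : sympForm m F u' v' = 1) : ∃ g : Sp m F, g • u = u' ∧ g • v = v' := by
  obtain ⟨g, -, hg⟩ := exists_move_pair (S := ∅) (u := u) (v := v) (u' := u') (v' := v')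
    (by simp [supp_empty]) (by simp [supp_empty]) (by simp [supp_empty]) (by simp [supp_empty]) h h'
  exact ⟨g, hg⟩

end Cfsg.Agent.Symplectic
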