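import Cfsg.Agent.Lib.Symplectic.Basic

/-!
Short root elements of the symplectic group and perfectness.
-/

set_option autoImplicit false

namespace Cfsg.Agent.Symplectic

open Matrix
open scoped commutatorElement

variable {m : ℕ} {F : Type*} [Field F]

/-- The short root element `x ↦ x + a (f(x, v) u + f(x, u) v)` for orthogonal `u`, `v`. -/
def sh (u v : Vec m F) (a : F) : Sp m F := tv (u + v) a * tv u (-a) * tv v (-a)

theorem sh_smul {u v : Vec m F} (h : sympForm m F u v = 0) (a : F) (x : Vec m F) :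
    sh u v a • x = x + (a * sympForm m F x v) • u + (a * sympForm m F x u) • v := by
  have h' : sympForm m F v u = 0 := by rw [sympForm_swap, h, neg_zero]
  simp only [sh, mul_smul, tv_smul, sympForm_add_left, sympForm_smul_left, sympForm_add_right,
    sympForm_self, h, h']
  module

theorem mem_commutator (g h : Sp m F) : g * h * g⁻¹ * h⁻¹ ∈ commutator (Sp m F) := by
  rw [commutator_def, ← commutatorElement_def]
  exact Subgroup.commutator_mem_commutator (Subgroup.mem_top _) (Subgroup.mem_top _)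

theorem commutator_eq_top_of_tv {u : Vec m F} (hu : u ≠ 0)
    (h : ∀ c : F, tv u c ∈ commutator (Sp m F)) : commutator (Sp m F) = ⊤ := by
  rw [eq_top_iff, ← tvGroup_empty, tvGroup, Subgroup.closure_le]
  rintro _ ⟨w, -, c, rfl⟩
  by_cases hw : w = 0
  · have : tv w c = 1 := eq_of_smul_eq fun x => by simp [tv_smul, hw]
    rw [this]
    exact one_mem _
  · obtain ⟨g, rfl⟩ := exists_smul_eq_of_ne_zero hu hw
    rw [← conj_tv]
    exact Subgroup.Normal.conj_mem inferInstance _ (h c) g

theorem commutator_eq_top_of_sq_ne_one (ha : ∃ a : F, a ≠ 0 ∧ a ^ 2 ≠ 1) :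
    commutator (Sp m F) = ⊤ := by
  rcases Nat.eq_zero_or_pos m with rfl | hm
  · have : Subsingleton (Sp 0 F) := ⟨fun g h => eq_of_smul_eq fun v => Subsingleton.elim _ _⟩
    exact Subsingleton.elim _ _
  obtain ⟨a, ha0, ha1⟩ := ha
  obtain ⟨u, hu⟩ : ∃ u : Vec m F, u ≠ 0 := ⟨_, eI_ne_zero ⟨0, hm⟩⟩
  refine commutator_eq_top_of_tv hu fun c => ?_
  obtain ⟨g, hg⟩ := exists_smul_eq_of_ne_zero hu (smul_ne_zero ha0 hu)
  have key := mem_commutator g (tv u (c / (a ^ 2 - 1)))
  rw [conj_tv, hg, tv_smul_vec, tv_inv, tv_mul_tv] at key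
  convert key using 2
  have : a ^ 2 - 1 ≠ 0 := sub_ne_zero.2 ha1
  field_simp
  ring

/-- The commutator attached to orthogonal `u`, `z` and a conjugator shearing `z` along `u`. -/
theorem tv_shear_mem {i j : Fin m} (hij : i ≠ j) (a c : F) :
    tv (eI j + a • eI i) c * tv (eI j) (-c) ∈ commutator (Sp m F) := by
  have h : sympForm m F (eI i) (fI j) = 0 := sympForm_eI_fI_of_ne hij
  have hg : sh (eI i) (fI j) (-a) • (eI j : Vec m F) = eI j + a • eI i := by
    rw [sh_smul h, sympForm_eI_fI, sympForm_eI_eI]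
    simp
  have key := mem_commutator (sh (eI i) (fI j) (-a)) (tv (eI j) c)
  rwa [conj_tv, hg, tv_inv] at key

theorem commutator_eq_top_of_two_ne_zero (hm : 2 ≤ m) (h2 : (2 : F) ≠ 0) :
    commutator (Sp m F) = ⊤ := by
  set i : Fin m := ⟨0, by omega⟩
  set j : Fin m := ⟨1, by omega⟩
  have hij : i ≠ j := by simp [i, j]
  refine commutator_eq_top_of_tv (eI_ne_zero i) fun c => ?_
  have key := mul_mem (tv_shear_mem hij (1 : F) (c / 2)) (tv_shear_mem hij (-1 : F) (c / 2))
  have e1 : sympForm m F (eI i) (eI j) = 0 := sympForm_eI_eI _ _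
  have e2 : sympForm m F (eI j) (eI i) = 0 := sympForm_eI_eI _ _
  convert key
  refine eq_of_smul_eq fun x => ?_
  simp only [mul_smul, tv_smul, sympForm_add_left, sympForm_smul_left, sympForm_add_right,
    sympForm_smul_right, sympForm_self, e1, e2]
  match_scalars <;> field_simp <;> ring

theorem sh_mem {i j k : Fin m} (hij : i ≠ j) (hik : i ≠ k) (hjk : j ≠ k) (b : F) :
    sh (eI i) (eI j) b ∈ commutator (Sp m F) := by
  have h1 : sympForm m F (eI j) (fI k) = 0 := sympForm_eI_fI_of_ne hjk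
  have e1 : sympForm m F (eI i) (eI j) = 0 := sympForm_eI_eI _ _
  have e2 : sympForm m F (eI i) (eI k) = 0 := sympForm_eI_eI _ _
  set g : Sp m F := sh (eI j) (fI k) (-1)
  have hgk : g • (eI k : Vec m F) = eI k + eI j := by
    rw [sh_smul h1, sympForm_eI_fI, sympForm_eI_eI]
    simp
  have hgi : g • (eI i : Vec m F) = eI i := by
    rw [sh_smul h1, sympForm_eI_fI_of_ne hik, sympForm_eI_eI]
    simp
  have key := mem_commutator g (sh (eI i) (eI k) b)
  have conj : g * sh (eI i) (eI k) b * g⁻¹ = sh (eI i) (eI k + eI j) b := by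
    refine eq_of_smul_eq fun x => ?_
    have e2' : sympForm m F (eI i) (eI k + eI j) = 0 := by
      rw [sympForm_add_right, e1, e2, add_zero]
    rw [mul_smul, mul_smul, sh_smul e2, sh_smul e2', smul_add, smul_add, smul_inv_smul,
      smul_comm g, smul_comm g, hgk, hgi]
    conv_rhs => rw [← hgk, ← hgi, ← smul_inv_smul g x, sympForm_smul_smul, sympForm_smul_smul,
      hgk, hgi, smul_inv_smul]
  rw [conj] at key
  have inv : (sh (eI i) (eI k) b)⁻¹ = sh (eI i) (eI k) (-b) := by
    refine inv_eq_of_mul_eq_one_right (eq_of_smul_eq fun x => ?_)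
    have e2' : sympForm m F (eI k) (eI i) = 0 := sympForm_eI_eI _ _
    rw [one_smul, mul_smul, sh_smul e2, sh_smul e2]
    simp only [sympForm_add_left, sympForm_smul_left, sympForm_self, e2, e2']
    module
  rw [inv] at key
  convert key
  refine eq_of_smul_eq fun x => ?_
  have e3 : sympForm m F (eI i) (eI k + eI j) = 0 := by rw [sympForm_add_right, e1, e2, add_zero]
  have e2' : sympForm m F (eI k) (eI i) = 0 := sympForm_eI_eI _ _
  have e1' : sympForm m F (eI j) (eI i) = 0 := sympForm_eI_eI _ _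
  have e4 : sympForm m F (eI k) (eI j) = 0 := sympForm_eI_eI _ _
  rw [mul_smul, sh_smul e1, sh_smul e2, sh_smul e3]
  simp only [sympForm_add_left, sympForm_add_right, sympForm_smul_left, sympForm_self, e1, e2,
    e1', e2', e4]
  module

theorem commutator_eq_top_of_three_le (hm : 3 ≤ m) : commutator (Sp m F) = ⊤ := by
  set i : Fin m := ⟨0, by omega⟩
  set j : Fin m := ⟨1, by omega⟩
  set k : Fin m := ⟨2, by omega⟩
  have hij : i ≠ j := by simp [i, j]
  refine commutator_eq_top_of_tv (eI_ne_zero i) fun c => ?_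
  have key := mul_mem (tv_shear_mem hij (1 : F) c)
    (sh_mem (i := i) (j := j) (k := k) hij (by simp [i, k]) (by simp [j, k]) (-c))
  have e1 : sympForm m F (eI i) (eI j) = 0 := sympForm_eI_eI _ _
  have e2 : sympForm m F (eI j) (eI i) = 0 := sympForm_eI_eI _ _
  convert key
  refine eq_of_smul_eq fun x => ?_
  simp only [mul_smul, sh_smul e1, tv_smul, sympForm_add_left, sympForm_smul_left,
    sympForm_add_right, sympForm_smul_right, sympForm_self, e1, e2]
  module

theorem exists_sq_ne_one_or [Fintype F] :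
    (∃ a : F, a ≠ 0 ∧ a ^ 2 ≠ 1) ∨
      (Fintype.card F = 2 ∧ (2 : F) = 0) ∨ (Fintype.card F = 3 ∧ (2 : F) ≠ 0) := by
  classical
  by_cases h : ∃ a : F, a ≠ 0 ∧ a ^ 2 ≠ 1
  · exact Or.inl h
  refine Or.inr ?_
  have hall : ∀ a : F, a = 0 ∨ a = 1 ∨ a = -1 := fun a =>
    (em (a = 0)).imp_right fun ha => sq_eq_one_iff.1 (not_not.1 fun h' => h ⟨a, ha, h'⟩)
  by_cases h2 : (2 : F) = 0
  · left
    have hneg : (-1 : F) = 1 := by linear_combination -h2
    have : (Finset.univ : Finset F) = {0, 1} := by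
      ext a
      rcases hall a with rfl | rfl | rfl <;> simp [hneg]
    exact ⟨by rw [← Finset.card_univ, this]; simp, h2⟩
  · right
    have hne : (1 : F) ≠ -1 := fun e => h2 (by linear_combination e)
    have : (Finset.univ : Finset F) = {0, 1, -1} := by
      ext a
      rcases hall a with rfl | rfl | rfl <;> simp
    exact ⟨by rw [← Finset.card_univ, this]; simp [hne], h2⟩

/-- `Sp_{2m}(q)` is perfect apart from `Sp_2(2)`, `Sp_2(3)` and `Sp_4(2)`. -/
theorem commutator_eq_top [Fintype F]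
    (h : 3 ≤ m ∨ (m = 2 ∧ 3 ≤ Fintype.card F) ∨ 4 ≤ Fintype.card F) :
    commutator (Sp m F) = ⊤ := by
  rcases exists_sq_ne_one_or (F := F) with ha | ⟨hc, h2⟩ | ⟨hc, h2⟩
  · exact commutator_eq_top_of_sq_ne_one ha
  · exact commutator_eq_top_of_three_le (by omega)
  · exact commutator_eq_top_of_two_ne_zero (by omega) h2

end Cfsg.Agent.Symplectic
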